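import Mathlib
import Cfsg.Agent.Lib.Helper3.Zass.ZhDefs
import Cfsg.Agent.Lib.Helper3.Zass.ZhSmall
import Cfsg.Agent.Lib.Helper97.Zass.ZhGeo
import Cfsg.Agent.Lib.Helper97.Zass.ZhBig

/-!
# Project ZASS (S0690), package [ZH]: assembly

`N3 G` (the subgroup generated by the elements of order 3 of a finite group with a
fixed-point-free linear action) is trivial, of order 3, a line or a plane.
-/

set_option autoImplicit false

namespace Cfsg.Agent.Lib.Helper3.Zass

open Cfsg.Agent.Lib.Helper51.Zass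

universe u

/-- [ZH] -/
theorem pkgZh (hPair : PkgPair.{u}) (hT1 : PkgT1.{u}) (h24 : PkgStr24.{u})
    (h120 : PkgStr120.{u}) (hUI : PkgUI.{u}) (hConj : PkgConj.{u}) (_hSRG : PkgSRG.{u}) :
    PkgZh.{u} :=
  pkgZh_of (Cfsg.Agent.Lib.Helper97.Zass.pkgZhGeo hPair hT1 h24 h120 hUI hConj)
    Cfsg.Agent.Lib.Helper97.Zass.pkgZhBig' pkgZhSmall

end Cfsg.Agent.Lib.Helper3.Zass
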